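import Cfsg.Agent.Lib.AutPSL.Classes

/-!
Field automorphisms of prime order of `PSL_n(F)`.
-/

set_option autoImplicit false

namespace Cfsg.Agent.Lib.AutPSL

open Matrix

variable {n : ℕ} {F : Type*} [Field F]

theorem exists_std_of_field [Fintype F] [NeZero n] (hn : 2 ≤ n) {x : MulAut (P n F)}
    (hx : Cfsg.IsFieldAutClassPSL x) :
    ∃ σ : F ≃+* F, σ ≠ 1 ∧ orderOf σ = orderOf x ∧
      ∃ b ∈ Cfsg.inndiagPSL n F, x = b * D (fieldSL σ) * b⁻¹ := by
  obtain ⟨α, σ, hσ, hst⟩ := hx
  rw [stdField_iff] at hst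
  refine ⟨σ, hσ, ?_, exists_inndiag_conj hn (fun τ => commute_fieldSL σ τ) ?_ hst⟩
  · rw [← orderOf_fieldSL (n := n) hn σ, ← hst, orderOf_conj]
  · exact (graph_field_D σ).symm

theorem exists_std_of_graphField [Fintype F] [NeZero n] (hn : 2 ≤ n) {x : MulAut (P n F)}
    (hx : Cfsg.IsGraphFieldAutClassPSL x) :
    3 ≤ n ∧ ∃ σ : F ≃+* F, σ ≠ 1 ∧ orderOf (D (fieldSL σ) * D graphSL : MulAut (P n F)) = orderOf x ∧
      ∃ b ∈ Cfsg.inndiagPSL n F, x = b * (D (fieldSL σ) * D graphSL) * b⁻¹ := by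
  obtain ⟨hn3, α, φ, γ, σ, hσ, hφ, hγ, h⟩ := hx
  rw [stdField_iff] at hφ
  rw [invTranspose_iff] at hγ
  subst hφ hγ
  refine ⟨hn3, σ, hσ, ?_, exists_inndiag_conj hn ?_ ?_ h⟩
  · rw [← h, orderOf_conj]
  · exact fun τ => (commute_fieldSL σ τ).mul_left (graph_field_D τ)
  · exact Commute.mul_left (S := MulAut (P n F)) (graph_field_D σ).symm (Commute.refl _)

/-- An element of the coset of prime order is conjugate to the standard one. -/
theorem conj_iff_of_std {X : Type*} [Group X] {G : Subgroup X} [G.Normal] {x S b δ : X}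
    (hb : b ∈ G) (hx : x = b * S * b⁻¹) (hδ : δ ∈ G) {r : ℕ} (hr : r.Prime) (hxr : orderOf x = r)
    (key : ∀ d ∈ G, (d * S) ^ r = 1 → ∃ a ∈ G, d * S = a * S * a⁻¹) :
    orderOf (δ * x) = r ↔ Cfsg.IsConjUnder G x (δ * x) := by
  constructor
  · intro h
    have hd : δ * (b * (S * b⁻¹ * S⁻¹)) ∈ G :=
      mul_mem hδ (mul_mem hb (‹G.Normal›.conj_mem _ (inv_mem hb) S))
    have he : δ * x = δ * (b * (S * b⁻¹ * S⁻¹)) * S := by rw [hx]; group
    obtain ⟨a, ha, h'⟩ := key _ hd (by rw [← he, ← h]; exact pow_orderOf_eq_one _)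
    exact ⟨a * b⁻¹, mul_mem ha (inv_mem hb), by rw [he, h', hx]; group⟩
  · rintro ⟨a, -, h⟩
    rw [h, orderOf_conj, hxr]

/-- The fixed field. -/
theorem exists_embedding [Fintype F] {p f : ℕ} [Fact p.Prime] (hF : Fintype.card F = p ^ f)
    {σ : F ≃+* F} {r : ℕ} (hr : orderOf σ = r) (hrf : r ∣ f)
    (F₀ : Type*) [Field F₀] [Fintype F₀] (hF₀ : Fintype.card F₀ = p ^ (f / r)) :
    ∃ ι : F₀ →+* F, ∀ c : F, σ c = c ↔ c ∈ Set.range ι := by
  classical
  haveI : Finite (F ≃+* F) := Finite.of_injective (fun e : F ≃+* F => (e : F → F)) DFunLike.coe_injective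
  let H : Subgroup (F ≃+* F) := Subgroup.zpowers σ
  letI : Fintype H := Fintype.ofFinite H
  let K := FixedPoints.subfield H F
  have hmem : ∀ c : F, c ∈ K ↔ σ c = c := by
    intro c
    show (∀ h : H, h • c = c) ↔ _
    constructor
    · intro h; exact h ⟨σ, Subgroup.mem_zpowers σ⟩
    · rintro h ⟨τ, hτ⟩
      have : σ ∈ MulAction.stabilizer (F ≃+* F) c := h
      exact (Subgroup.zpowers_le.2 this hτ : τ ∈ MulAction.stabilizer (F ≃+* F) c)
  have hrank : Module.finrank K F = r := by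
    rw [FixedPoints.finrank_eq_card H F, ← Nat.card_eq_fintype_card, Nat.card_zpowers, hr]
  haveI : Fintype K := Fintype.ofFinite K
  have hK : Fintype.card K = Fintype.card F₀ := by
    have h := Module.card_eq_pow_finrank (K := K) (V := F)
    rw [hrank, hF] at h
    obtain ⟨k, hk⟩ := hrf
    have hr0 : r ≠ 0 := by rw [← hr]; exact (orderOf_pos σ).ne'
    rw [hF₀, hk, Nat.mul_div_cancel_left _ (Nat.pos_of_ne_zero hr0)]
    refine (Nat.pow_left_injective hr0 ?_).symm
    show (p ^ k) ^ r = Fintype.card K ^ r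
    rw [← h, hk, ← pow_mul, mul_comm]
  let e : F₀ ≃+* K := FiniteField.ringEquivOfCardEq hK.symm
  refine ⟨K.subtype.comp e.toRingHom, fun c => ⟨fun h => ?_, ?_⟩⟩
  · exact ⟨e.symm ⟨c, (hmem c).2 h⟩, by simp⟩
  · rintro ⟨a, rfl⟩
    exact (hmem _).1 (e a).2

theorem fixU_eq_range {σ : F ≃+* F} {F₀ : Type*} [Field F₀] (ι : F₀ →+* F)
    (hι : ∀ c : F, σ c = c ↔ c ∈ Set.range ι) : fixU σ = (Units.map ι.toMonoidHom).range := by
  ext c
  rw [mem_fixU, Units.ext_iff]
  show σ (c : F) = c ↔ _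
  rw [hι]
  constructor
  · rintro ⟨a, ha⟩
    have ha0 : a ≠ 0 := by rintro rfl; rw [map_zero] at ha; exact c.ne_zero ha.symm
    exact ⟨Units.mk0 a ha0, Units.ext ha⟩
  · rintro ⟨a, rfl⟩
    exact ⟨a, rfl⟩

theorem card_fixU [Finite F] {σ : F ≃+* F} {F₀ : Type*} [Field F₀] (ι : F₀ →+* F)
    (hι : ∀ c : F, σ c = c ↔ c ∈ Set.range ι) : Nat.card (fixU σ) = Nat.card F₀ - 1 := by
  rw [fixU_eq_range ι hι, ← Nat.card_units,
    ← Nat.card_congr (MonoidHom.ofInjective (Units.map_injective ι.injective)).toEquiv]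

/-- The centraliser of a field automorphism in `GL_n`, modulo scalars. -/
theorem field_centralizer_iff [Finite F] (hn : 2 ≤ n) {σ : F ≃+* F} {r : ℕ} (hr : orderOf σ = r)
    (hr0 : 0 < r) {g : GL (Fin n) F} :
    g ∈ (Subgroup.centralizer {(D (fieldSL σ) : MulAut (P n F))}).comap (conjHom n F) ↔
      ∃ (c : Fˣ) (h : GL (Fin n) F), mapGL σ h = h ∧ g = GeneralLinearGroup.scalar (Fin n) c * h := by
  haveI : NeZero n := ⟨by omega⟩
  rw [mem_comap_centralizer hn (twist_field σ)]
  constructor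
  · rintro ⟨l, hl⟩
    have hord : σ ^ r = 1 := by rw [← hr]; exact pow_orderOf_eq_one σ
    have hit : ∀ i, (mapGL σ)^[i] g =
        GeneralLinearGroup.scalar (Fin n) (tw (mapU σ) l i) * g := by
      intro i
      induction i with
      | zero => simp
      | succ i ih =>
        rw [Function.iterate_succ_apply', ih, map_mul, hl, mapGL_scalar, tw_succ, map_mul,
          (scalar_commute (mapU σ (tw (mapU σ) l i)) (GeneralLinearGroup.scalar (Fin n) l)).eq.symm]
        simp only [mul_assoc]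
    have h := hit r
    rw [mapGL_iterate_order hord, eq_comm, mul_eq_right, ← map_one (GeneralLinearGroup.scalar (Fin n))] at h
    have hl1 : l ∈ (ratioU σ).range := by
      rw [← ker_normU hr hr0]; exact scalar_injective h
    obtain ⟨c, hc⟩ := hl1
    refine ⟨c⁻¹, GeneralLinearGroup.scalar (Fin n) c * g, ?_, ?_⟩
    · rw [map_mul, hl, mapGL_scalar, ← mul_assoc, ← map_mul, ← hc, ratioU_apply, mul_div_cancel]
    · rw [← mul_assoc, ← map_mul, inv_mul_cancel, map_one, one_mul]
  · rintro ⟨c, h, hh, rfl⟩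
    refine ⟨mapU σ c / c, ?_⟩
    rw [map_mul, hh, mapGL_scalar, ← mul_assoc, ← map_mul, div_mul_cancel]

theorem field_centralizer_iso [Finite F] (hn : 2 ≤ n) {σ : F ≃+* F} {r : ℕ} (hr : orderOf σ = r)
    (hr0 : 0 < r) {F₀ : Type*} [Field F₀] (ι : F₀ →+* F)
    (hι : ∀ c : F, σ c = c ↔ c ∈ Set.range ι) :
    Nonempty (↥(Cfsg.inndiagPSL n F ⊓ Subgroup.centralizer {(D (fieldSL σ) : MulAut (P n F))}) ≃*
      Matrix.ProjGenLinGroup (Fin n) F₀) := by
  classical
  haveI : NeZero n := ⟨by omega⟩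
  let ψ : GL (Fin n) F₀ →* MulAut (P n F) := (conjHom n F).comp (GeneralLinearGroup.map ι)
  have hfix : ∀ h : GL (Fin n) F, mapGL σ h = h ↔ ∃ a, GeneralLinearGroup.map ι a = h := by
    intro h
    constructor
    · intro hh
      have hent : ∀ i j, ∃ a : F₀, ι a = h i j := fun i j => (hι _).1
        (congrArg (fun M : GL (Fin n) F => M i j) hh)
      choose a ha using hent
      have hm : (Matrix.of a).map ι = (h : Matrix (Fin n) (Fin n) F) := Matrix.ext ha
      have hdet : (Matrix.of a).det ≠ 0 := by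
        intro h0
        have := congrArg ι h0
        rw [RingHom.map_det, map_zero] at this
        exact (GeneralLinearGroup.det h).ne_zero (by rw [GeneralLinearGroup.val_det_apply, ← hm]; exact this)
      exact ⟨GeneralLinearGroup.mkOfDetNeZero _ hdet, Units.ext hm⟩
    · rintro ⟨a, rfl⟩
      apply Units.ext
      ext i j
      exact (hι _).2 ⟨_, rfl⟩
  have hker : ψ.ker = Subgroup.center (GL (Fin n) F₀) := by
    ext g
    rw [MonoidHom.mem_ker]
    show conjHom n F (GeneralLinearGroup.map ι g) = 1 ↔ _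
    rw [← MonoidHom.mem_ker, ker_conjHom hn]
    constructor
    · intro h
      rw [Subgroup.mem_center_iff]
      intro k
      have := Subgroup.mem_center_iff.1 h (GeneralLinearGroup.map ι k)
      rw [← map_mul, ← map_mul] at this
      exact Units.ext (Matrix.map_injective ι.injective (congrArg Units.val this))
    · intro h
      rw [GeneralLinearGroup.center_eq_range_scalar] at h ⊢
      obtain ⟨c, rfl⟩ := h
      refine ⟨Units.map ι.toMonoidHom c, Units.ext ?_⟩
      ext i j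
      by_cases hij : i = j <;> simp [GeneralLinearGroup.scalar, GeneralLinearGroup.map, hij]
  have hrange : ψ.range = Cfsg.inndiagPSL n F ⊓ Subgroup.centralizer {(D (fieldSL σ) : MulAut (P n F))} := by
    rw [inndiag_eq]
    apply le_antisymm
    · rintro _ ⟨a, rfl⟩
      refine ⟨⟨_, rfl⟩, ?_⟩
      exact (field_centralizer_iff hn hr hr0).2 ⟨1, _, (hfix _).2 ⟨a, rfl⟩, by simp⟩
    · rintro _ ⟨⟨g, rfl⟩, hg⟩
      obtain ⟨c, h, hh, rfl⟩ := (field_centralizer_iff hn hr hr0).1 hg
      obtain ⟨a, rfl⟩ := (hfix h).1 hh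
      exact ⟨a, ((conjHom_eq_iff hn).2 ⟨c, rfl⟩).symm⟩
  exact ⟨(MulEquiv.subgroupCongr hrange.symm).trans
    ((QuotientGroup.quotientKerEquivRange ψ).symm.trans (QuotientGroup.quotientMulEquivOfEq hker))⟩

theorem field_det_centralizer [Finite F] (hn : 2 ≤ n) {σ : F ≃+* F} {r : ℕ} (hr : orderOf σ = r)
    (hr0 : 0 < r) :
    ((Subgroup.centralizer {(D (fieldSL σ) : MulAut (P n F))}).comap (conjHom n F)).map
      GeneralLinearGroup.det = fixU σ ⊔ (powMonoidHom n : Fˣ →* Fˣ).range := by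
  classical
  haveI : NeZero n := ⟨by omega⟩
  apply le_antisymm
  · rintro _ ⟨g, hg, rfl⟩
    obtain ⟨c, h, hh, rfl⟩ := (field_centralizer_iff hn hr hr0).1 hg
    rw [map_mul, det_scalar]
    refine mul_mem (Subgroup.mem_sup_right ⟨c, rfl⟩) (Subgroup.mem_sup_left ?_)
    show mapU σ (GeneralLinearGroup.det h) = GeneralLinearGroup.det h
    conv_rhs => rw [← hh]
    apply Units.ext
    show σ.toRingHom ((h : Matrix (Fin n) (Fin n) F).det) = ((h : Matrix (Fin n) (Fin n) F).map σ).det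
    rw [RingHom.map_det]; rfl
  · refine sup_le (fun c hc => ?_) ?_
    · let M : Matrix (Fin n) (Fin n) F := Matrix.diagonal (Function.update 1 0 (c : F))
      have hM : M.det = c := by
        rw [det_diagonal, Finset.prod_update_of_mem (Finset.mem_univ 0)]; simp
      refine ⟨GeneralLinearGroup.mkOfDetNeZero M (by rw [hM]; exact c.ne_zero), ?_,
        Units.ext (by rw [GeneralLinearGroup.val_det_apply]; exact hM)⟩
      refine (field_centralizer_iff hn hr hr0).2 ⟨1, _, Units.ext ?_, by rw [map_one, one_mul]⟩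
      show M.map σ = M
      rw [Matrix.diagonal_map (map_zero σ)]
      congr 1
      funext i
      have hc' : σ (c : F) = c := congrArg Units.val hc
      by_cases hi : i = 0
      · subst hi; simpa using hc'
      · simp [Function.update_of_ne hi]
    · rintro _ ⟨c, rfl⟩
      exact ⟨GeneralLinearGroup.scalar (Fin n) c,
        (field_centralizer_iff hn hr hr0).2 ⟨c, 1, map_one _, (mul_one _).symm⟩, det_scalar c⟩

theorem index_eq_div {A : Type*} [Group A] [Finite A] (K : Subgroup A) :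
    K.index = Nat.card A / Nat.card K := by
  rw [← K.card_mul_index, Nat.mul_div_cancel_left _ Nat.card_pos]

end Cfsg.Agent.Lib.AutPSL
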