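import Cfsg.Agent.Lib.AutPSL.Lang

/-!
Classes and centralisers in the inner-diagonal group of field and graph-field automorphisms of
`PSL_n(F)`.
-/

set_option autoImplicit false

namespace Cfsg.Agent.Lib.AutPSL

open Matrix

variable {n : ℕ} {F : Type*} [Field F]

theorem inndiag_eq : Cfsg.inndiagPSL n F = (conjHom n F).range := by
  apply le_antisymm
  · refine (Subgroup.closure_le _).2 ?_
    intro β hβ
    obtain ⟨g, rfl⟩ := innerDiag_iff.1 hβ
    exact ⟨g, rfl⟩
  · rintro _ ⟨g, rfl⟩
    exact Subgroup.subset_closure (innerDiag_iff.2 ⟨g, rfl⟩)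

theorem conjHom_eq_iff (hn : 2 ≤ n) {g h : GL (Fin n) F} :
    conjHom n F g = conjHom n F h ↔ ∃ c : Fˣ, g = GeneralLinearGroup.scalar (Fin n) c * h := by
  haveI : NeZero n := ⟨by omega⟩
  rw [MonoidHom.eq_iff, ker_conjHom hn, GeneralLinearGroup.center_eq_range_scalar]
  constructor
  · rintro ⟨c, hc⟩
    refine ⟨c, ?_⟩
    rw [(scalar_commute c h).eq, hc, mul_inv_cancel_left]
  · rintro ⟨c, rfl⟩
    refine ⟨c, ?_⟩
    rw [(scalar_commute c h).eq, inv_mul_cancel_left]

/-- `S` normalises the conjugations, through `e`. -/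
def Twist (S : MulAut (P n F)) (e : GL (Fin n) F →* GL (Fin n) F) : Prop :=
  ∀ g, S * conjHom n F g = conjHom n F (e g) * S

theorem twist_field [NeZero n] (σ : F ≃+* F) : Twist (D (fieldSL σ) : MulAut (P n F)) (mapGL σ) :=
  fun g => field_conj_D σ g

/-- The inverse transpose as a homomorphism. -/
noncomputable def contraHom : GL (Fin n) F →* GL (Fin n) F where
  toFun := contragredient
  map_one' := Units.ext (by simp [contragredient])
  map_mul' a b := Units.ext (by
    simp [contragredient, Units.val_mul, Matrix.transpose_mul])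

theorem twist_graphField [NeZero n] (σ : F ≃+* F) :
    Twist (D (fieldSL σ) * D graphSL : MulAut (P n F)) ((mapGL σ).comp contraHom) := fun g => by
  show D (fieldSL σ) * D graphSL * D (conjSL g) = D (conjSL (mapGL σ (contragredient g))) * _
  rw [mul_assoc, graph_conj_D, ← mul_assoc, field_conj_D, mul_assoc]

/-- The commuting condition. -/
theorem mem_comap_centralizer (hn : 2 ≤ n) {S : MulAut (P n F)} {e : GL (Fin n) F →* GL (Fin n) F}
    (hS : Twist S e) {g : GL (Fin n) F} :
    g ∈ (Subgroup.centralizer {S}).comap (conjHom n F) ↔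
      ∃ c : Fˣ, e g = GeneralLinearGroup.scalar (Fin n) c * g := by
  rw [← conjHom_eq_iff hn, Subgroup.mem_comap, Subgroup.mem_centralizer_singleton_iff]
  constructor
  · intro h
    have := hS g
    rw [← h] at this
    exact (mul_right_cancel this).symm
  · intro h
    rw [hS g, h]

/-- Number of classes of inner automorphisms in one inner-diagonal class. -/
theorem splitClassCount_eq (hn : 2 ≤ n) (x : MulAut (P n F)) :
    Cfsg.splitClassCount (Cfsg.inndiagPSL n F) (Cfsg.Inn (P n F)) x =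
      (((Subgroup.centralizer {x}).comap (conjHom n F)).map GeneralLinearGroup.det).index := by
  haveI : NeZero n := ⟨by omega⟩
  rw [inndiag_eq]
  set C := (Subgroup.centralizer {x}).comap (conjHom n F) with hC
  set H := C.map GeneralLinearGroup.det with hH
  let Y := {y : MulAut (P n F) // Cfsg.IsConjUnder (conjHom n F).range x y}
  let rel : Y → Y → Prop := fun y z => Cfsg.IsConjUnder (Cfsg.Inn (P n F)) y.1 z.1
  show Nat.card (Quot rel) = _
  have hrel : Equivalence rel := by
    refine ⟨fun y => ⟨1, one_mem _, by simp⟩, ?_, ?_⟩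
    · rintro y z ⟨t, ht, h⟩
      exact ⟨t⁻¹, inv_mem ht, by rw [h]; group⟩
    · rintro y z w ⟨t, ht, h⟩ ⟨u, hu, h'⟩
      exact ⟨u * t, mul_mem hu ht, by rw [h', h]; group⟩
  let f : GL (Fin n) F → Quot rel := fun g => Quot.mk rel
    ⟨conjHom n F g * x * (conjHom n F g)⁻¹, conjHom n F g, ⟨g, rfl⟩, rfl⟩
  have key : ∀ g g' : GL (Fin n) F, f g = f g' ↔ g⁻¹ * g' ∈ H.comap GeneralLinearGroup.det := by
    intro g g'
    show Quot.mk rel _ = Quot.mk rel _ ↔ _
    rw [Quot.eq, hrel.eqvGen_iff, Subgroup.mem_comap, hH, Subgroup.mem_map]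
    constructor
    · rintro ⟨t, ⟨a, rfl⟩, h⟩
      obtain ⟨s, rfl⟩ := pr_surjective a
      rw [inn_eq] at h
      change conjHom n F g' * x * (conjHom n F g')⁻¹ =
        conjHom n F (Matrix.SpecialLinearGroup.toGL s) * (conjHom n F g * x * (conjHom n F g)⁻¹) *
          (conjHom n F (Matrix.SpecialLinearGroup.toGL s))⁻¹ at h
      refine ⟨(Matrix.SpecialLinearGroup.toGL s * g)⁻¹ * g', ?_, ?_⟩
      · rw [hC, Subgroup.mem_comap, Subgroup.mem_centralizer_singleton_iff, map_mul, map_inv, map_mul]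
        have h' := congrArg (fun z => (conjHom n F g)⁻¹ * (conjHom n F (Matrix.SpecialLinearGroup.toGL s))⁻¹ *
          z * conjHom n F g') h
        simp only [mul_assoc, inv_mul_cancel_left, inv_mul_cancel, mul_one] at h'
        simp only [mul_assoc, _root_.mul_inv_rev]
        exact h'
      · have : GeneralLinearGroup.det (Matrix.SpecialLinearGroup.toGL s : GL (Fin n) F) = 1 :=
          Units.ext (by rw [GeneralLinearGroup.val_det_apply]; exact s.prop)
        simp [map_mul, this]
    · rintro ⟨c, hc, hdet⟩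
      have hs : ((g' * c⁻¹ * g⁻¹ : GL (Fin n) F) : Matrix (Fin n) (Fin n) F).det = 1 := by
        rw [← GeneralLinearGroup.val_det_apply, map_mul, map_mul, map_inv, map_inv, hdet, map_mul,
          map_inv]
        simp [mul_comm, mul_left_comm, mul_assoc]
      refine ⟨conjHom n F (g' * c⁻¹ * g⁻¹), ⟨pr (⟨_, hs⟩ : S n F), ?_⟩, ?_⟩
      · exact (inn_eq (⟨_, hs⟩ : S n F)).trans (congrArg (conjHom n F) (Units.ext rfl))
      · rw [hC, Subgroup.mem_comap, Subgroup.mem_centralizer_singleton_iff] at hc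
        have hx : (conjHom n F c)⁻¹ * x * conjHom n F c = x := by
          rw [mul_assoc, ← hc, inv_mul_cancel_left]
        simp only [map_mul, map_inv]
        calc conjHom n F g' * x * (conjHom n F g')⁻¹
            = conjHom n F g' * ((conjHom n F c)⁻¹ * x * conjHom n F c) * (conjHom n F g')⁻¹ := by
              rw [hx]
          _ = _ := by group
  let φ : GL (Fin n) F ⧸ H.comap GeneralLinearGroup.det → Quot rel :=
    Quotient.lift f fun a b hab => (key a b).2 (QuotientGroup.leftRel_apply.1 hab)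
  have hφ : Function.Bijective φ := by
    constructor
    · intro a b
      induction a using QuotientGroup.induction_on with | _ a => ?_
      induction b using QuotientGroup.induction_on with | _ b => ?_
      exact fun h => QuotientGroup.eq.2 ((key a b).1 h)
    · intro q
      induction q using Quot.ind with | _ y => ?_
      obtain ⟨y, b, ⟨g, rfl⟩, rfl⟩ := y
      exact ⟨QuotientGroup.mk g, rfl⟩
  rw [← Nat.card_congr (Equiv.ofBijective φ hφ), ← Subgroup.index_eq_card,
    Subgroup.index_comap_of_surjective _ (fun c => ?_)]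
  let M : Matrix (Fin n) (Fin n) F := Matrix.diagonal (Function.update 1 0 (c : F))
  have hM : M.det = c := by
    rw [det_diagonal, Finset.prod_update_of_mem (Finset.mem_univ 0)]; simp
  exact ⟨GeneralLinearGroup.mkOfDetNeZero M (by rw [hM]; exact c.ne_zero),
    Units.ext (by rw [GeneralLinearGroup.val_det_apply]; exact hM)⟩

/-- Transport along inner-diagonal conjugation. -/
theorem isConjUnder_congr {X : Type*} [Group X] {H : Subgroup X} {x x' b : X} (hb : b ∈ H)
    (h : x = b * x' * b⁻¹) (y : X) : Cfsg.IsConjUnder H x y ↔ Cfsg.IsConjUnder H x' y := by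
  subst h
  constructor
  · rintro ⟨t, ht, rfl⟩; exact ⟨t * b, mul_mem ht hb, by group⟩
  · rintro ⟨t, ht, rfl⟩; exact ⟨t * b⁻¹, mul_mem ht (inv_mem hb), by group⟩

theorem splitClassCount_congr {X : Type*} [Group X] {H K : Subgroup X} {x x' b : X} (hb : b ∈ H)
    (h : x = b * x' * b⁻¹) : Cfsg.splitClassCount H K x = Cfsg.splitClassCount H K x' := by
  have hP : (fun y => Cfsg.IsConjUnder H x y) = (fun y => Cfsg.IsConjUnder H x' y) :=
    funext fun y => propext (isConjUnder_congr hb h y)
  unfold Cfsg.splitClassCount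
  exact Nat.card_congr (Quot.congr (Equiv.subtypeEquivRight fun y => isConjUnder_congr hb h y)
    fun _ _ => Iff.rfl)

theorem inf_centralizer_conj {X : Type*} [Group X] {H : Subgroup X} {x x' b : X} (hb : b ∈ H)
    (h : x = b * x' * b⁻¹) :
    (H ⊓ Subgroup.centralizer {x'}).map (MulAut.conj b).toMonoidHom = H ⊓ Subgroup.centralizer {x} := by
  subst h
  ext y
  rw [Subgroup.mem_map_equiv, MulAut.conj_symm_apply, Subgroup.mem_inf, Subgroup.mem_inf,
    Subgroup.mem_centralizer_singleton_iff, Subgroup.mem_centralizer_singleton_iff]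
  constructor
  · rintro ⟨h1, h2⟩
    refine ⟨?_, ?_⟩
    · simpa [mul_assoc] using mul_mem (mul_mem hb h1) (inv_mem hb)
    · calc y * (b * x' * b⁻¹) = b * (b⁻¹ * y * b * x') * b⁻¹ := by group
        _ = b * (x' * (b⁻¹ * y * b)) * b⁻¹ := by rw [h2]
        _ = _ := by group
  · rintro ⟨h1, h2⟩
    refine ⟨mul_mem (mul_mem (inv_mem hb) h1) hb, ?_⟩
    calc b⁻¹ * y * b * x' = b⁻¹ * (y * (b * x' * b⁻¹)) * b := by group
      _ = b⁻¹ * (b * x' * b⁻¹ * y) * b := by rw [h2]
      _ = _ := by group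

/-- An element of the automorphism class of `S` is inner-diagonally conjugate to `S`, as soon as
field and graph automorphisms centralise `S`. -/
theorem exists_inndiag_conj [Fintype F] [NeZero n] (hn : 2 ≤ n) {S β α : MulAut (P n F)}
    (hS : ∀ (τ : F ≃+* F), Commute S (D (fieldSL τ))) (hS' : Commute S (D graphSL))
    (h : α * β * α⁻¹ = S) : ∃ b ∈ Cfsg.inndiagPSL n F, β = b * S * b⁻¹ := by
  haveI : Fact (2 ≤ n) := ⟨hn⟩
  obtain ⟨a, τ, e, rfl⟩ := std_all hn α
  obtain ⟨B, hB, hBS⟩ : ∃ B : MulAut (P n F), mkAut a τ e = conjHom n F a * B ∧ Commute S B := by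
    refine ⟨D (fieldSL τ) * (if e then D graphSL else 1), mul_assoc _ _ _, ?_⟩
    refine (hS τ).mul_right ?_
    cases e
    · exact Commute.one_right S
    · exact hS'
  rw [hB] at h
  set A := conjHom n F a with hA
  refine ⟨B⁻¹ * A⁻¹ * B, ?_, ?_⟩
  · rw [inndiag_eq]
    have := (innerDiag_normal (n := n) (F := F)).conj_mem A⁻¹ (inv_mem ⟨a, rfl⟩) B⁻¹
    rwa [inv_inv] at this
  · have h1 : β = B⁻¹ * A⁻¹ * S * A * B := by rw [← h]; group
    rw [h1]
    calc B⁻¹ * A⁻¹ * S * A * B = B⁻¹ * A⁻¹ * (S * B) * (B⁻¹ * A * B) := by group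
      _ = B⁻¹ * A⁻¹ * (B * S) * (B⁻¹ * A * B) := by rw [hBS.eq]
      _ = _ := by group

theorem commute_fieldSL [Fintype F] (σ τ : F ≃+* F) :
    Commute (D (fieldSL σ) : MulAut (P n F)) (D (fieldSL τ)) := by
  obtain ⟨p, hp⟩ := CharP.exists F
  obtain ⟨m, hpp, hq⟩ := FiniteField.card F p
  haveI : Fact p.Prime := ⟨hpp⟩
  haveI : NeZero n → True := fun _ => trivial
  have hc : Commute σ τ := by
    rcases Nat.eq_zero_or_pos n with hn0 | hn0 <;>
    · letI : Algebra (ZMod p) F := ZMod.algebra F p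
      let a : ∀ ρ : F ≃+* F, Gal(F/ZMod p) := fun ρ => AlgEquiv.ofRingEquiv (f := ρ) (fun x =>
        RingHom.congr_fun (RingHom.ext_zmod (ρ.toRingHom.comp (algebraMap (ZMod p) F))
          (algebraMap (ZMod p) F)) x)
      haveI : IsCyclic Gal(F/ZMod p) := inferInstance
      let c : CommGroup Gal(F/ZMod p) := IsCyclic.commGroup
      exact RingEquiv.ext fun x => AlgEquiv.congr_fun (c.mul_comm (a σ) (a τ)) x
  exact (hc.map fieldSL).map D

theorem orderOf_fieldSL [NeZero n] (hn : 2 ≤ n) (σ : F ≃+* F) :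
    orderOf (D (fieldSL σ) : MulAut (P n F)) = orderOf σ := by
  refine orderOf_injective (D.comp fieldSL) ?_ σ
  rw [injective_iff_map_eq_one]
  intro τ h
  exact (conj_field_trivial (g := 1) hn (by simpa using h)).1

theorem orderOf_conj {X : Type*} [Group X] (b x : X) : orderOf (b * x * b⁻¹) = orderOf x := by
  rw [← MulAut.conj_apply]
  exact MulEquiv.orderOf_eq (MulAut.conj b) x

/-- Prime order elements of the coset of a field automorphism are conjugate to it. -/
theorem exists_conj_of_field [Finite F] [NeZero n] (hn : 2 ≤ n) {σ : F ≃+* F} {r : ℕ}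
    (hr : orderOf σ = r) (hr0 : 0 < r) (g : GL (Fin n) F)
    (h : (conjHom n F g * D (fieldSL σ)) ^ r = 1) :
    ∃ a : GL (Fin n) F,
      conjHom n F g * D (fieldSL σ) = conjHom n F a * D (fieldSL σ) * (conjHom n F a)⁻¹ := by
  rw [tw_pow (mapGL σ) (conjHom n F) _ (twist_field σ) g r, ← map_pow, ← map_pow, ← hr,
    pow_orderOf_eq_one, map_one, map_one, mul_one, hr, ← MonoidHom.mem_ker, ker_conjHom hn] at h
  obtain ⟨c, hc⟩ := exists_scalar_normalise hr hr0 h
  obtain ⟨a, ha⟩ := lang hr hr0 hc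
  refine ⟨a, ?_⟩
  have he : conjHom n F (GeneralLinearGroup.scalar (Fin n) c * g) = conjHom n F g :=
    (conjHom_eq_iff hn).2 ⟨c, rfl⟩
  rw [← he, eq_mul_inv_iff_mul_eq, mul_assoc, twist_field σ a, ← mul_assoc, ← map_mul, ha]

/-- The index of a subgroup joined with the `n`-th powers in a finite cyclic group. -/
theorem index_sup_powers {A : Type*} [CommGroup A] [IsCyclic A] [Finite A] (K : Subgroup A) (n : ℕ) :
    (K ⊔ (powMonoidHom n : A →* A).range).index = Nat.gcd n K.index := by
  set e := Nat.gcd n K.index with he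
  have hle : K ⊔ (powMonoidHom n : A →* A).range ≤ (powMonoidHom e : A →* A).range := by
    refine sup_le (fun x hx => ?_) ?_
    · obtain ⟨γ, hγ⟩ := IsCyclic.exists_generator (α := A)
      obtain ⟨a, rfl⟩ := Subgroup.mem_zpowers_iff.1 (hγ x)
      have h1 : (γ ^ a) ^ Nat.card K = 1 := by
        exact congrArg Subtype.val (pow_card_eq_one' (G := K) (x := ⟨γ ^ a, hx⟩))
      rw [← zpow_natCast, ← _root_.zpow_mul, ← orderOf_dvd_iff_zpow_eq_one,
        orderOf_eq_card_of_forall_mem_zpowers hγ, ← K.card_mul_index, Nat.cast_mul,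
        mul_comm (Nat.card K : ℤ), Int.mul_dvd_mul_iff_right (by exact_mod_cast Nat.card_pos.ne')] at h1
      obtain ⟨b, hb⟩ := (Int.natCast_dvd_natCast.2 (Nat.gcd_dvd_right n K.index)).trans h1
      refine ⟨γ ^ b, ?_⟩
      show (γ ^ b) ^ e = γ ^ a
      rw [← zpow_natCast, ← _root_.zpow_mul, hb, mul_comm]
    · rintro _ ⟨x, rfl⟩
      obtain ⟨k, hk⟩ := Nat.gcd_dvd_left n K.index
      exact ⟨x ^ k, by show (x ^ k) ^ e = x ^ n; rw [← pow_mul, mul_comm]; exact congrArg _ hk.symm⟩
  apply Nat.dvd_antisymm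
  · refine Nat.dvd_gcd ?_ (Subgroup.index_dvd_of_le le_sup_left)
    refine (Subgroup.index_dvd_of_le le_sup_right).trans ?_
    rw [IsCyclic.index_powMonoidHom_range]
    exact Nat.gcd_dvd_right _ _
  · refine dvd_trans (dvd_of_eq ?_) (Subgroup.index_dvd_of_le hle)
    rw [IsCyclic.index_powMonoidHom_range, Nat.gcd_eq_right]
    exact (Nat.gcd_dvd_right n K.index).trans K.index_dvd_card

end Cfsg.Agent.Lib.AutPSL
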