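import Cfsg.Agent.Lib.Forms.SymmType
import Cfsg.Agent.Lib.Forms.Alternating
import Cfsg.Agent.Lib.Classical.Symplectic

/-!
Congruence classes of invertible symmetric and alternating matrices over finite fields.
-/

set_option autoImplicit false
set_option maxHeartbeats 400000

namespace Cfsg.Agent.Lib.AutPSL

open Matrix

universe u

variable {F : Type u} [Field F] {ι : Type} [Fintype ι] [DecidableEq ι]

/-- Congruence of square matrices. -/
def Congr (g g' : Matrix ι ι F) : Prop := ∃ P : GL ι F, (P : Matrix ι ι F)ᵀ * g * P = g'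

theorem Congr.refl (g : Matrix ι ι F) : Congr g g := ⟨1, by simp⟩

theorem Congr.symm {g g' : Matrix ι ι F} (h : Congr g g') : Congr g' g := by
  obtain ⟨P, rfl⟩ := h
  refine ⟨P⁻¹, ?_⟩
  calc ((P⁻¹ : GL ι F) : Matrix ι ι F)ᵀ * ((P : Matrix ι ι F)ᵀ * g * P) * ((P⁻¹ : GL ι F) : Matrix ι ι F)
      = ((P : Matrix ι ι F) * ((P⁻¹ : GL ι F) : Matrix ι ι F))ᵀ * g *
          ((P : Matrix ι ι F) * ((P⁻¹ : GL ι F) : Matrix ι ι F)) := by
        simp only [transpose_mul, mul_assoc]
    _ = g := by simp [← Units.val_mul]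

theorem Congr.trans {g g' g'' : Matrix ι ι F} (h : Congr g g') (h' : Congr g' g'') : Congr g g'' := by
  obtain ⟨P, rfl⟩ := h
  obtain ⟨R, rfl⟩ := h'
  exact ⟨P * R, by simp only [Units.val_mul, transpose_mul, mul_assoc]⟩

theorem Congr.det {g g' : Matrix ι ι F} (h : Congr g g') : IsSquare (g.det * g'.det) := by
  obtain ⟨P, rfl⟩ := h
  refine ⟨g.det * (P : Matrix ι ι F).det, ?_⟩
  rw [det_mul, det_mul, det_transpose]
  ring

theorem Congr.transpose_eq {g g' : Matrix ι ι F} (h : Congr g g') {ε : F} (hg : gᵀ = ε • g) :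
    g'ᵀ = ε • g' := by
  obtain ⟨P, rfl⟩ := h
  rw [transpose_mul, transpose_mul, transpose_transpose, hg, Matrix.smul_mul, Matrix.mul_smul,
    ← mul_assoc]

theorem Congr.diag_zero {g g' : Matrix ι ι F} (h : Congr g g')
    (hg : ∀ x, Matrix.toBilin' g x x = 0) (x : ι → F) : Matrix.toBilin' g' x x = 0 := by
  obtain ⟨P, rfl⟩ := h
  rw [← Matrix.toBilin'_comp]
  exact hg _

theorem congr_of_map {g g' : Matrix ι ι F} (hg' : g'.det ≠ 0) (L : (ι → F) →ₗ[F] (ι → F))
    (h : ∀ x y, Matrix.toBilin' g (L x) (L y) = Matrix.toBilin' g' x y) : Congr g g' := by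
  have e : (LinearMap.toMatrix' L)ᵀ * g * LinearMap.toMatrix' L = g' := by
    apply Matrix.toBilin'.injective
    rw [← Matrix.toBilin'_comp]
    refine LinearMap.ext fun x => LinearMap.ext fun y => ?_
    rw [LinearMap.BilinForm.comp_apply, Matrix.toLin'_toMatrix', h]
  have hd : (LinearMap.toMatrix' L).det ≠ 0 := fun h0 => hg' (by
    rw [← e, det_mul, h0, mul_zero])
  exact ⟨GeneralLinearGroup.mkOfDetNeZero _ hd, e⟩

theorem bilin_flip {g : Matrix ι ι F} {ε : F} (hg : gᵀ = ε • g) (x y : ι → F) :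
    Matrix.toBilin' g y x = ε * Matrix.toBilin' g x y := by
  rw [Matrix.toBilin'_apply', Matrix.toBilin'_apply', dotProduct_mulVec, dotProduct_comm,
    ← mulVec_transpose, hg, smul_mulVec, dotProduct_smul, smul_eq_mul]

theorem bilin_nondeg {g : Matrix ι ι F} (hg : g.det ≠ 0) {x : ι → F}
    (h : ∀ y, Matrix.toBilin' g x y = 0) : x = 0 :=
  (LinearMap.BilinForm.nondegenerate_toBilin'_of_det_ne_zero' g hg).1 x h

theorem bilin_nondeg' {g : Matrix ι ι F} (hg : g.det ≠ 0) {y : ι → F}
    (h : ∀ x, Matrix.toBilin' g x y = 0) : y = 0 :=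
  (LinearMap.BilinForm.nondegenerate_toBilin'_of_det_ne_zero' g hg).2 y h

/-- Alternating matrices are congruent. -/
theorem congr_alt {g g' : Matrix ι ι F} (hd : g.det ≠ 0) (hd' : g'.det ≠ 0)
    (ha : ∀ x, Matrix.toBilin' g x x = 0) (ha' : ∀ x, Matrix.toBilin' g' x x = 0) : Congr g g' := by
  obtain ⟨e, he⟩ := Forms.exists_alt_isometry (Matrix.toBilin' g') ha'
    (fun x h => bilin_nondeg hd' h) (Matrix.toBilin' g) ha (fun x h => bilin_nondeg hd h) rfl
  exact congr_of_map hd' e.toLinearMap he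

/-- A nondegenerate alternating space has even dimension. -/
theorem alt_even {V : Type u} [AddCommGroup V] [Module F V] [FiniteDimensional F V]
    (B : LinearMap.BilinForm F V) (hA : B.IsAlt) (hB : ∀ x, (∀ y, B x y = 0) → x = 0) :
    Even (Module.finrank F V) := by
  obtain ⟨m, k, b, -, -, -, h4⟩ := Forms.exists_altBasis B hA
  obtain rfl : k = 0 := by
    by_contra hk
    exact b.ne_zero (Sum.inr ⟨0, Nat.pos_of_ne_zero hk⟩) (hB _ fun v => h4 _ v)
  exact ⟨m, by rw [Module.finrank_eq_card_basis b]; simp⟩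

section odd

variable [Finite F]

theorem exists_diag (h2 : (2 : F) ≠ 0) {g : Matrix ι ι F} (hs : gᵀ = g) (hd : g.det ≠ 0) :
    ∃ (b : Module.Basis (Fin (Fintype.card ι)) F (ι → F)) (d : Fin (Fintype.card ι) → F),
      (∀ i j, Matrix.toBilin' g (b i) (b j) = if i = j then d i else 0) ∧ (∀ i, d i ≠ 0) ∧
        IsSquare (g.det * ∏ i, d i) := by
  classical
  haveI : Invertible (2 : F) := invertibleOfNonzero h2
  have hsym : LinearMap.IsSymm (Matrix.toBilin' g) := ⟨fun x y => by
    rw [RingHom.id_apply, bilin_flip (ε := 1) (by rw [one_smul, hs]) y x, one_mul]⟩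
  obtain ⟨v, hv⟩ := LinearMap.BilinForm.exists_orthogonal_basis hsym
  obtain ⟨b, hb⟩ : ∃ b : Module.Basis (Fin (Fintype.card ι)) F (ι → F),
      ∀ i j, i ≠ j → Matrix.toBilin' g (b i) (b j) = 0 :=
    ⟨v.reindex (finCongr (Module.finrank_fintype_fun_eq_card F (η := ι))), fun i j hij => by
      rw [Module.Basis.reindex_apply, Module.Basis.reindex_apply]
      exact hv (fun h => hij ((finCongr _).symm.injective h))⟩
  refine ⟨b, fun i => Matrix.toBilin' g (b i) (b i), fun i j => ?_, fun i hi => ?_, ?_⟩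
  · split_ifs with h
    · rw [h]
    · exact hb i j h
  · simp only at hi
    refine b.ne_zero i (bilin_nondeg hd fun y => ?_)
    rw [← b.sum_repr y, map_sum]
    refine Finset.sum_eq_zero fun j _ => ?_
    rw [map_smul]
    rcases eq_or_ne i j with rfl | hij
    · rw [hi, smul_zero]
    · rw [hb i j hij, smul_zero]
  · obtain ⟨e⟩ : Nonempty (ι ≃ Fin (Fintype.card ι)) := ⟨Fintype.equivFin ι⟩
    set P := (Pi.basisFun F ι).toMatrix (b.reindex e.symm) with hP
    have h := congrArg Matrix.det (LinearMap.BilinForm.toMatrix_mul_basis_toMatrix (Pi.basisFun F ι)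
      (b.reindex e.symm) (Matrix.toBilin' g))
    have e1 : LinearMap.BilinForm.toMatrix (b.reindex e.symm) (Matrix.toBilin' g) =
        Matrix.diagonal fun i => Matrix.toBilin' g (b (e i)) (b (e i)) := by
      ext i j
      rw [LinearMap.BilinForm.toMatrix_apply, Module.Basis.reindex_apply, Module.Basis.reindex_apply,
        Matrix.diagonal_apply, Equiv.symm_symm]
      split_ifs with hij
      · rw [hij]
      · exact hb _ _ fun he => hij (e.injective he)
    have e2 : LinearMap.BilinForm.toMatrix (Pi.basisFun F ι) (Matrix.toBilin' g) = g := by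
      ext i j
      rw [LinearMap.BilinForm.toMatrix_apply, Pi.basisFun_apply, Pi.basisFun_apply,
        Matrix.toBilin'_single]
    rw [e1, e2, det_diagonal, det_mul, det_mul, det_transpose,
      Equiv.prod_comp e (fun i => Matrix.toBilin' g (b i) (b i))] at h
    exact ⟨g.det * P.det, by rw [← h]; ring⟩

/-- Symmetric matrices of the same discriminant are congruent. -/
theorem congr_symm (h2 : (2 : F) ≠ 0) {g g' : Matrix ι ι F} (hs : gᵀ = g) (hs' : g'ᵀ = g')
    (hd : g.det ≠ 0) (hd' : g'.det ≠ 0) (hsq : IsSquare (g.det * g'.det)) : Congr g g' := by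
  obtain ⟨b, d, hb, hd0, hbd⟩ := exists_diag h2 hs hd
  obtain ⟨b', d', hb', hd0', hbd'⟩ := exists_diag h2 hs' hd'
  have hsq' : IsSquare ((∏ i, d i) * ∏ i, d' i) := by
    obtain ⟨x, hx⟩ := hsq
    obtain ⟨y, hy⟩ := hbd
    obtain ⟨z, hz⟩ := hbd'
    refine ⟨y * z / x, ?_⟩
    have hx0 : x ≠ 0 := fun h => mul_ne_zero hd hd' (by rw [hx, h, mul_zero])
    field_simp
    linear_combination (-(∏ i, d i) * ∏ i, d' i) * hx + (g'.det * ∏ i, d' i) * hy + (y * y) * hz
  obtain ⟨L, hL⟩ := Forms.exists_isometry h2 (Matrix.toBilin' g) (Matrix.toBilin' g') b b' d d'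
    hb hb' hd0 hd0' hsq'
  exact congr_of_map hd' L hL

end odd

section two

variable [Finite F] [CharP F 2]

theorem exists_sqrt (c : F) : ∃ r : F, r * r = c := by
  cases nonempty_fintype F
  obtain ⟨r, hr⟩ := FiniteField.isSquare_of_char_two (ringChar.eq F 2) c
  exact ⟨r, hr.symm⟩

/-- The data of a nonalternating symmetric matrix in characteristic two. -/
theorem exists_diag_vec {g : Matrix ι ι F} (hs : gᵀ = g) (hd : g.det ≠ 0)
    (hne : ∃ x, Matrix.toBilin' g x x ≠ 0) :
    ∃ (ℓ : (ι → F) →ₗ[F] F) (u : ι → F), (∀ x, Matrix.toBilin' g x x = ℓ x * ℓ x) ∧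
      (∀ x, Matrix.toBilin' g x u = ℓ x) ∧ u ≠ 0 ∧
      ((ℓ u = 1 ∧ ¬ Even (Fintype.card ι)) ∨ (ℓ u = 0 ∧ Even (Fintype.card ι))) := by
  have h1 : gᵀ = (1 : F) • g := by rw [one_smul, hs]
  have hf : ∀ x y, Matrix.toBilin' g y x = Matrix.toBilin' g x y := fun x y => by
    rw [bilin_flip h1, one_mul]
  choose r hr using exists_sqrt (F := F)
  let ℓ : (ι → F) →ₗ[F] F :=
    { toFun := fun x => r (Matrix.toBilin' g x x)
      map_add' := fun x y => frobenius_inj F 2 (by
        simp only [frobenius_def]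
        rw [CharTwo.add_sq, pow_two, pow_two, pow_two, hr, hr, hr]
        simp only [map_add, LinearMap.add_apply]
        rw [hf x y]
        linear_combination (CharTwo.two_eq_zero (R := F)) * Matrix.toBilin' g x y)
      map_smul' := fun c x => frobenius_inj F 2 (by
        simp only [frobenius_def, RingHom.id_apply, smul_eq_mul]
        rw [mul_pow, pow_two, pow_two, pow_two, hr, hr]
        simp only [map_smul, LinearMap.smul_apply, smul_eq_mul]
        ring) }
  have hℓ : ∀ x, Matrix.toBilin' g x x = ℓ x * ℓ x := fun x => (hr _).symm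
  let D := LinearMap.BilinForm.toDual (Matrix.toBilin' g)
    (LinearMap.BilinForm.nondegenerate_toBilin'_of_det_ne_zero' g hd)
  set u := D.symm ℓ with hu
  have hux : ∀ x, Matrix.toBilin' g u x = ℓ x := fun x =>
    LinearMap.BilinForm.apply_toDual_symm_apply ℓ x
  have hxu : ∀ x, Matrix.toBilin' g x u = ℓ x := fun x => by rw [hf]; exact hux x
  have hu0 : u ≠ 0 := fun h => by
    obtain ⟨x, hx⟩ := hne
    rw [hℓ, ← hux x, h, map_zero, LinearMap.zero_apply, mul_zero] at hx
    exact hx rfl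
  have hs01 : ℓ u = 0 ∨ ℓ u = 1 := by
    have h := hℓ u
    rw [hux] at h
    rcases eq_or_ne (ℓ u) 0 with h0 | h0
    · exact Or.inl h0
    · exact Or.inr ((mul_eq_left₀ h0).1 h.symm)
  refine ⟨ℓ, u, hℓ, hxu, hu0, ?_⟩
  rcases hs01 with h0 | h1'
  · refine Or.inr ⟨h0, ?_⟩
    let A : LinearMap.BilinForm F (ι → F) := Matrix.toBilin' g + ℓ.smulRight ℓ
    have hA : A.IsAlt := fun x => by
      simp [A, hℓ, CharTwo.add_self_eq_zero]
    have := alt_even A hA fun x hx => by
      have hgx : x = ℓ x • u := by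
        refine sub_eq_zero.1 (bilin_nondeg hd fun y => ?_)
        have := hx y
        simp [A] at this
        rw [CharTwo.add_eq_zero] at this
        simp [hux, this]
      have : ℓ x = 0 := by rw [hgx, map_smul, h0, smul_zero]
      rw [hgx, this, zero_smul]
    rwa [Module.finrank_fintype_fun_eq_card] at this
  · refine Or.inl ⟨h1', ?_⟩
    have hne0 : ℓ ≠ 0 := fun h => by rw [h, LinearMap.zero_apply] at h1'; exact zero_ne_one h1'
    have hev := alt_even ((Matrix.toBilin' g).restrict (LinearMap.ker ℓ)) (fun x => by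
      show Matrix.toBilin' g (x : ι → F) x = 0
      rw [hℓ, LinearMap.mem_ker.1 x.2, mul_zero]) fun x hx => by
      refine Subtype.ext (bilin_nondeg hd fun y => ?_)
      have hy : y - ℓ y • u ∈ LinearMap.ker ℓ := by simp [LinearMap.mem_ker, h1']
      have := hx ⟨_, hy⟩
      simp only [LinearMap.BilinForm.restrict_apply, LinearMap.domRestrict_apply] at this
      rw [map_sub, map_smul, hxu, LinearMap.mem_ker.1 x.2, smul_zero, sub_zero] at this
      exact this
    have hsum := LinearMap.finrank_range_add_finrank_ker ℓ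
    rw [LinearMap.range_eq_top.2 (LinearMap.surjective hne0), finrank_top, Module.finrank_self,
      Module.finrank_fintype_fun_eq_card] at hsum
    intro he
    obtain ⟨a₁, ha₁⟩ := he
    obtain ⟨a₂, ha₂⟩ := hev
    omega

/-- Nonalternating symmetric matrices are congruent in characteristic two. -/
theorem congr_nonalt {g g' : Matrix ι ι F} (hs : gᵀ = g) (hs' : g'ᵀ = g') (hd : g.det ≠ 0)
    (hd' : g'.det ≠ 0) (hne : ∃ x, Matrix.toBilin' g x x ≠ 0)
    (hne' : ∃ x, Matrix.toBilin' g' x x ≠ 0) : Congr g g' := by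
  obtain ⟨ℓ, u, hℓ, hu, hu0, hp⟩ := exists_diag_vec hs hd hne
  obtain ⟨ℓ', u', hℓ', hu', hu0', hp'⟩ := exists_diag_vec hs' hd' hne'
  have h1 : gᵀ = (1 : F) • g := by rw [one_smul, hs]
  have h1' : g'ᵀ = (1 : F) • g' := by rw [one_smul, hs']
  have hux : ∀ x, Matrix.toBilin' g u x = ℓ x := fun x => by rw [bilin_flip h1, one_mul, hu]
  have hux' : ∀ x, Matrix.toBilin' g' u' x = ℓ' x := fun x => by rw [bilin_flip h1', one_mul, hu']
  rcases hp with ⟨hs1, hodd⟩ | ⟨hs0, hev⟩
  · obtain ⟨hs1', -⟩ := hp'.resolve_right fun h => hodd h.2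
    let B := (Matrix.toBilin' g).restrict (LinearMap.ker ℓ)
    let B' := (Matrix.toBilin' g').restrict (LinearMap.ker ℓ')
    have hBn : ∀ {h : Matrix ι ι F} {k : (ι → F) →ₗ[F] F} {w : ι → F}, h.det ≠ 0 → k w = 1 →
        (∀ x, Matrix.toBilin' h x w = k x) →
        ((Matrix.toBilin' h).restrict (LinearMap.ker k)).SeparatingLeft := by
      intro h k w hd hw hx x hxy
      refine Subtype.ext (bilin_nondeg hd fun y => ?_)
      have hy : y - k y • w ∈ LinearMap.ker k := by simp [LinearMap.mem_ker, hw]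
      have := hxy ⟨_, hy⟩
      simp only [LinearMap.BilinForm.restrict_apply, LinearMap.domRestrict_apply] at this
      rw [map_sub, map_smul, hx, LinearMap.mem_ker.1 x.2, smul_zero, sub_zero] at this
      exact this
    have hrk : ∀ {k : (ι → F) →ₗ[F] F} {w : ι → F}, k w = 1 →
        Module.finrank F (LinearMap.ker k) + 1 = Fintype.card ι := by
      intro k w hw
      have hsum := LinearMap.finrank_range_add_finrank_ker k
      rw [LinearMap.range_eq_top.2 (LinearMap.surjective fun h => by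
          rw [h, LinearMap.zero_apply] at hw; exact zero_ne_one hw), finrank_top,
        Module.finrank_self, Module.finrank_fintype_fun_eq_card] at hsum
      omega
    obtain ⟨φ, hφ⟩ := Forms.exists_alt_isometry B' (fun x => by
        show Matrix.toBilin' g' (x : ι → F) x = 0
        rw [hℓ', LinearMap.mem_ker.1 x.2, mul_zero]) (hBn hd' hs1' hu') B (fun x => by
        show Matrix.toBilin' g (x : ι → F) x = 0
        rw [hℓ, LinearMap.mem_ker.1 x.2, mul_zero]) (hBn hd hs1 hu)
      (by have := hrk hs1; have := hrk hs1'; omega)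
    let pr' : (ι → F) →ₗ[F] LinearMap.ker ℓ' :=
      (LinearMap.id - ℓ'.smulRight u').codRestrict _ fun x => by simp [LinearMap.mem_ker, hs1']
    let L : (ι → F) →ₗ[F] (ι → F) :=
      (LinearMap.ker ℓ).subtype ∘ₗ φ.toLinearMap ∘ₗ pr' + ℓ'.smulRight u
    refine congr_of_map hd' L fun x y => ?_
    have hxy := hφ (pr' x) (pr' y)
    simp only [B, B', LinearMap.BilinForm.restrict_apply, LinearMap.domRestrict_apply] at hxy
    have hk : ∀ z : LinearMap.ker ℓ, ℓ (z : ι → F) = 0 := fun z => LinearMap.mem_ker.1 z.2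
    simp only [L, LinearMap.add_apply, LinearMap.comp_apply, LinearMap.smulRight_apply,
      LinearEquiv.coe_coe, Submodule.subtype_apply, map_add, map_smul, LinearMap.smul_apply, hu, hux,
      hk, hs1, hxy, smul_eq_mul]
    rw [show ((pr' x : LinearMap.ker ℓ') : ι → F) = x - ℓ' x • u' from rfl,
      show ((pr' y : LinearMap.ker ℓ') : ι → F) = y - ℓ' y • u' from rfl]
    simp only [map_sub, map_smul, LinearMap.sub_apply, LinearMap.smul_apply, hu', hux', hs1', smul_eq_mul]
    ring
  · obtain ⟨hs0', -⟩ := hp'.resolve_left fun h => h.2 hev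
    let A : LinearMap.BilinForm F (ι → F) := Matrix.toBilin' g + ℓ.smulRight ℓ
    let A' : LinearMap.BilinForm F (ι → F) := Matrix.toBilin' g' + ℓ'.smulRight ℓ'
    have hAe : ∀ x y, A x y = Matrix.toBilin' g x y + ℓ x * ℓ y := fun x y => by simp [A]
    have hAe' : ∀ x y, A' x y = Matrix.toBilin' g' x y + ℓ' x * ℓ' y := fun x y => by simp [A']
    have hAu : ∀ x, A x u = ℓ x := fun x => by rw [hAe, hu, hs0, mul_zero, add_zero]
    have hAu' : ∀ x, A' x u' = ℓ' x := fun x => by rw [hAe', hu', hs0', mul_zero, add_zero]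
    have hA : A.IsAlt := fun x => by rw [hAe, hℓ, CharTwo.add_self_eq_zero]
    have hA' : A'.IsAlt := fun x => by rw [hAe', hℓ', CharTwo.add_self_eq_zero]
    have hN : A.SeparatingLeft := fun x hx => by
      have hgx : x = ℓ x • u := by
        refine sub_eq_zero.1 (bilin_nondeg hd fun y => ?_)
        have := hx y
        rw [hAe, CharTwo.add_eq_zero] at this
        simp [hux, this]
      have : ℓ x = 0 := by rw [hgx, map_smul, hs0, smul_zero]
      rw [hgx, this, zero_smul]
    have hN' : A'.SeparatingLeft := fun x hx => by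
      have hgx : x = ℓ' x • u' := by
        refine sub_eq_zero.1 (bilin_nondeg hd' fun y => ?_)
        have := hx y
        rw [hAe', CharTwo.add_eq_zero] at this
        simp [hux', this]
      have : ℓ' x = 0 := by rw [hgx, map_smul, hs0', smul_zero]
      rw [hgx, this, zero_smul]
    obtain ⟨e, he⟩ := Forms.exists_alt_isometry A' hA' hN' A hA hN rfl
    have hnd : A.Nondegenerate := ⟨hN, fun y hy => hN y fun x => by
      rw [← hA.neg_eq, hy, neg_zero]⟩
    obtain ⟨T, hT, hTu⟩ := Classical.exists_iso_mulVec_eq hA hnd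
      (v := e u') (w := u) (fun h => hu0' (e.map_eq_zero_iff.1 h)) hu0
    have hTm : ∀ x y, A ((T : Matrix ι ι F) *ᵥ x) ((T : Matrix ι ι F) *ᵥ y) = A x y :=
      fun x y => Forms.mem_isoGroup.1 hT x y
    let L : (ι → F) →ₗ[F] (ι → F) := (Matrix.mulVecLin (T : Matrix ι ι F)) ∘ₗ e.toLinearMap
    have hAL : ∀ x y, A (L x) (L y) = A' x y := fun x y => by
      simp only [L, LinearMap.comp_apply, Matrix.mulVecLin_apply, LinearEquiv.coe_coe, hTm, he]
    have hℓL : ∀ x, ℓ (L x) = ℓ' x := fun x => by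
      rw [← hAu, ← hAu', ← hTu, ← hAL]
      rfl
    refine congr_of_map hd' L fun x y => ?_
    have h := hAL x y
    rw [hAe, hAe', hℓL, hℓL] at h
    exact add_right_cancel h

end two

end Cfsg.Agent.Lib.AutPSL
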